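import Cfsg.Agent.J2.Enum
import Cfsg.Agent.J2.Perm.Data
import Cfsg.Agent.Coset.Table
import Cfsg.Agent.J2.Spectrum.Data

/-! Kernel checks: cycle lengths of the base points. -/

set_option autoImplicit false
set_option maxRecDepth 100000

namespace CfsgLib.J2.Spectrum

open CfsgLib.Coset

/-- Lookup in a packed table. -/
noncomputable def look (p x : Nat) : Nat := Nat.land (Nat.shiftRight p (Nat.mul 12 x)) 4095

/-- The maximal orders. -/
def cand : List Nat := [7, 8, 10, 12, 15]

/-- For each cycle length, the candidates it divides. -/
noncomputable def mask (k : Nat) : Nat :=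
  Nat.land (Nat.shiftRight 604472137685193724804064 (Nat.mul 5 k)) 31

/-- The candidates divisible by the return time of a base point. -/
noncomputable def cyc (f : Nat → Nat) (b : Nat) : Nat → Nat → Nat → Nat :=
  fun fuel => Nat.rec (fun _ _ => 0)
    (fun _ ih x k => forceN (f x) fun y => cond (Nat.beq y b) (mask (Nat.succ k)) (ih y (Nat.succ k))) fuel

/-- One element has an admissible order. -/
noncomputable def good (pv pu pt : Nat) : Bool :=
  forceN (cyc (fun x => look pt (look pu (look pv x))) 1 15 1 0) fun a =>
  forceN (cyc (fun x => look pt (look pu (look pv x))) 301 15 301 0) fun b =>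
  forceN (cyc (fun x => look pt (look pu (look pv x))) 77 15 77 0) fun c =>
  cond (Nat.beq (Nat.land (Nat.land a b) c) 0) false true

/-- All elements over one suborbit representative. -/
noncomputable def checkRep (j : Nat) : Bool :=
  forceN (TT.get j) fun pt => allBelow 4 12 fun l => forceN (VT.get l) fun pv =>
    allBelow 8 160 fun k => forceN (UT.get k) fun pu => good pv pu pt

/-- The tables are built along a tree from the identity. -/
noncomputable def checkTree (T : Tr Nat) (par : List (Nat × Nat)) (gens : List (List Nat)) (d m : Nat) : Bool :=
  allBelow d m fun k => forceN (T.get k) fun p =>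
    cond (Nat.beq k 0) (allBelow 9 315 fun x => Nat.beq (look p x) x)
      (cond (Nat.ble (Nat.add (par.getD k (0, 0)).1 1) k)
        (forceN (T.get (par.getD k (0, 0)).1) fun q => allBelow 9 315 fun x =>
          Nat.beq (look p x) (follow (tget Perm.Tb) (look q x) (gens.getD (par.getD k (0, 0)).2 [])))
        false)

/-- The representatives' tables are those of their words. -/
noncomputable def checkReps : Bool :=
  allBelow 3 6 fun j => forceN (TT.get j) fun p =>
    cond (checkLetters5 (repWords.getD j [])) (cond (Nat.beq (look p 1) (reps.getD j 0))
      (allBelow 9 315 fun x => Nat.beq (look p x) (follow (tget Perm.Tb) x (repWords.getD j []))) false) false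
where
  checkLetters5 (w : List Nat) : Bool := allList (fun x => Nat.ble (Nat.add x 1) 5) w

/-- Every point is moved to a representative by the point stabiliser. -/
noncomputable def checkSub : Bool :=
  allBelow 9 315 fun i =>
    cond (Nat.ble (Nat.add (subWords.getD i (6, [])).1 1) 6)
      (Nat.beq (follow (fun x g => follow (tget Perm.Tb) x (Perm.G1G.getD g [])) i (subWords.getD i (6, [])).2)
        (reps.getD (subWords.getD i (6, [])).1 0))
      false

/-- The listed images are distinct. -/
noncomputable def checkDistinct (T : Tr Nat) (b d m : Nat) : Bool :=
  allBelow d m fun k => allBelow d m fun l =>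
    cond (Nat.ble l k) true (cond (Nat.beq (look (T.get k) b) (look (T.get l) b)) false true)

end CfsgLib.J2.Spectrum
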