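import Cfsg.Agent.J2.Spectrum.Check

/-! Element orders over suborbit representative 5. -/

set_option autoImplicit false
set_option maxRecDepth 100000

namespace CfsgLib.J2.Spectrum

theorem orders5 : checkRep 5 = true := by decide +kernel

end CfsgLib.J2.Spectrum
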