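import Cfsg.Agent.J2.Spectrum.Check

/-! The tree certificates. -/

set_option autoImplicit false
set_option maxRecDepth 100000

namespace CfsgLib.J2.Spectrum

open CfsgLib.Coset

theorem treeU : checkTree UT UPar Perm.G1G 8 160 = true := by decide +kernel

theorem treeV : checkTree VT VPar Perm.G2G 4 12 = true := by decide +kernel

theorem reps_ok : checkReps = true := by decide +kernel

theorem sub_ok : checkSub = true := by decide +kernel

theorem distinctU : checkDistinct UT 301 8 160 = true := by decide +kernel

theorem distinctV : checkDistinct VT 77 4 12 = true := by decide +kernel

end CfsgLib.J2.Spectrum
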