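import Cfsg.Agent.J2.Main
import Cfsg.Agent.J2.Perm.Cent
import Cfsg.Agent.Coset.RelCheck
import Cfsg.Agent.J2.Spectrum.Trees
import Cfsg.Agent.J2.Spectrum.Orders0
import Cfsg.Agent.J2.Spectrum.Orders1
import Cfsg.Agent.J2.Spectrum.Orders2
import Cfsg.Agent.J2.Spectrum.Orders3
import Cfsg.Agent.J2.Spectrum.Orders4
import Cfsg.Agent.J2.Spectrum.Orders5
import Cfsg.Agent.SpecBlow.FrobWitness

/-! The element orders of the Hall–Janko group. -/

set_option autoImplicit false
set_option maxRecDepth 100000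

namespace CfsgLib.J2.Spectrum

open CfsgLib.Coset Perm

/-- The action on the right. -/
noncomputable def pi (g : P) : Equiv.Perm (Fin 315) := (ρ g)⁻¹

theorem pi_mul (a b : P) (x : Fin 315) : pi (a * b) x = pi b (pi a x) := by
  simp [pi, mul_inv_rev]

theorem pi_one (x : Fin 315) : pi 1 x = x := by simp [pi]

theorem pi_ev {w : List Nat} (hw : ∀ l ∈ w, l < 5) (x : Fin 315) :
    ((pi (ev Lp w) x : Fin 315) : Nat) = follow (tget Perm.Tb) x w :=
  matches_ρ.follow_eq w x (by rwa [len_Lp])

theorem pi_fix {g : P} {b : Fin 315} (h : g ∈ pstab ρ b) : pi g b = b := by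
  rw [pi, Equiv.Perm.inv_def, Equiv.symm_apply_eq]; exact (mem_pstab.mp h).symm

theorem mem_of_pi {g : P} {b : Fin 315} (h : pi g b = b) : g ∈ pstab ρ b := by
  rw [pi, Equiv.Perm.inv_def, Equiv.symm_apply_eq] at h; exact mem_pstab.mpr h.symm

theorem tree_spec {T : Tr Nat} {par : List (Nat × Nat)} {gens : List (List Nat)} {d m : Nat}
    (hc : checkTree T par gens d m = true) (hl : checkLetters 5 gens = true) {S : Subgroup P}
    (hS : ∀ w ∈ gens, ev Lp w ∈ S) :
    ∀ k < m, ∃ g ∈ S, ∀ x : Fin 315, ((pi g x : Fin 315) : Nat) = look (T.get k) x := by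
  intro k
  induction k using Nat.strong_induction_on with
  | _ k ih =>
    intro hk
    have h := of_allBelow hc k hk
    rw [forceN_eq] at h
    rcases Nat.eq_zero_or_pos k with rfl | h0
    · rw [show Nat.beq 0 0 = true from rfl, cond_true] at h
      exact ⟨1, S.one_mem, fun x => by rw [pi_one]; exact (Nat.eq_of_beq_eq_true (of_allBelow h x x.2)).symm⟩
    · have hb : Nat.beq k 0 = false := by
        cases hh : Nat.beq k 0
        · rfl
        · exact absurd (Nat.eq_of_beq_eq_true hh) (by omega)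
      rw [hb, cond_false, cond_false_eq_true, forceN_eq] at h
      have hlt : (par.getD k (0, 0)).1 < k := Nat.ble_eq.mp h.1
      obtain ⟨g, hg, hgx⟩ := ih _ hlt (by omega)
      have hmem : ev Lp (gens.getD (par.getD k (0, 0)).2 []) ∈ S := by
        rcases lt_or_ge (par.getD k (0, 0)).2 gens.length with hi | hi
        · rw [List.getD_eq_getElem _ _ hi]; exact hS _ (List.getElem_mem hi)
        · rw [List.getD_eq_default _ _ hi, ev_nil]; exact S.one_mem
      refine ⟨g * ev Lp (gens.getD (par.getD k (0, 0)).2 []), S.mul_mem hg hmem, fun x => ?_⟩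
      rw [pi_mul, pi_ev (letters_getD hl _), hgx x]
      exact (Nat.eq_of_beq_eq_true (of_allBelow h.2 x x.2)).symm

theorem letters_G2 : checkLetters 5 Perm.G2G = true := by decide +kernel

theorem mem_G1 : ∀ w ∈ Perm.G1G, ev Lp w ∈ S1 := fun w hw => genW_eq_S1 ▸ ev_mem_genW hw

theorem fix_G2 : checkFix Perm.Tb (([1, 301] : List (Fin 315)).map Fin.val) Perm.G2G = true := by decide +kernel

theorem distinct_spec {T : Tr Nat} {b d m : Nat} (hc : checkDistinct T b d m = true) {k l : Nat} (hk : k < m)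
    (hl : l < m) (h : look (T.get k) b = look (T.get l) b) : k = l := by
  have key : ∀ k l, k < m → l < m → k < l → look (T.get k) b ≠ look (T.get l) b := fun k l hk hl hkl h => by
    have h1 := of_allBelow (of_allBelow hc k hk) l hl
    have hb : Nat.ble l k = false := by rw [← Bool.not_eq_true, Nat.ble_eq]; omega
    rw [hb, cond_false] at h1
    have hq : Nat.beq (look (T.get k) b) (look (T.get l) b) = true := by rw [h]; exact Nat.beq_refl _
    rw [hq, cond_true] at h1
    exact Bool.false_ne_true h1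
  rcases lt_trichotomy k l with h' | h' | h'
  · exact absurd h (key k l hk hl h')
  · exact h'
  · exact absurd h.symm (key l k hl hk h')

theorem S1_cases {h : P} (hh : h ∈ S1) : ∃ k < 160, ∃ l < 12,
    ∀ x : Fin 315, ((pi h x : Fin 315) : Nat) = look (UT.get k) (look (VT.get l) x) := by
  have hU := tree_spec treeU (by rw [← len_Lp]; exact letters_G1) mem_G1
  have hV := tree_spec treeV letters_G2 (S := baseStab ρ [(1 : Fin 315), 301])
    (matches_ρ.ev_mem_baseStab (by rw [len_Lp]; exact letters_G2) fix_G2)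
  choose u hu hux using hU
  choose v hv hvx using hV
  have hv1 : ∀ l hl, v l hl ∈ pstab ρ 1 ∧ v l hl ∈ pstab ρ 301 := fun l hl => by
    have := (mem_foldl_inf [(1 : Fin 315), 301] ⊤).mp (hv l hl)
    exact ⟨this.2 1 (by simp), this.2 301 (by simp)⟩
  have := finite_P
  let f : Fin 160 × Fin 12 → S1 := fun p => ⟨v p.2 p.2.2 * u p.1 p.1.2, S1.mul_mem (hv1 _ _).1 (hu _ _)⟩
  have hf : Function.Injective f := by
    rintro ⟨k, l⟩ ⟨k', l'⟩ h
    have h' : v l l.2 * u k k.2 = v l' l'.2 * u k' k'.2 := congrArg Subtype.val h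
    have h1 := congrArg (fun g => pi g 301) h'
    simp only [pi_mul, pi_fix (hv1 _ _).2] at h1
    have hk : (k : Nat) = k' := distinct_spec distinctU k.2 k'.2 (by
      have := congrArg Fin.val h1
      rwa [hux, hux] at this)
    obtain rfl : k = k' := Fin.ext hk
    have h2 := mul_right_cancel h'
    have hl : (l : Nat) = l' := distinct_spec distinctV l.2 l'.2 (by
      have := congrArg (fun g => ((pi g 77 : Fin 315) : Nat)) h2
      simp only [hvx] at this
      exact this)
    obtain rfl : l = l' := Fin.ext hl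
    rfl
  have hs : Function.Surjective f :=
    (Nat.bijective_iff_injective_and_card f).mpr ⟨hf, by simp [card_S1]⟩ |>.2
  obtain ⟨⟨k, l⟩, hkl⟩ := hs ⟨h, hh⟩
  refine ⟨k, k.2, l, l.2, fun x => ?_⟩
  have h' : v l l.2 * u k k.2 = h := congrArg Subtype.val hkl
  rw [← h', pi_mul, hux, hvx]

/-- Following generators of the point stabiliser. -/
theorem sub_spec : ∀ (w : List Nat) (i : Fin 315), ∃ c ∈ S1,
    ((pi c i : Fin 315) : Nat) = follow (fun x g => follow (tget Perm.Tb) x (Perm.G1G.getD g [])) i w := by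
  intro w
  induction w with
  | nil => intro i; exact ⟨1, S1.one_mem, by rw [pi_one, follow_nil]⟩
  | cons g w ih =>
    intro i
    have hg : ev Lp (Perm.G1G.getD g []) ∈ S1 := by
      rcases lt_or_ge g Perm.G1G.length with hi | hi
      · rw [List.getD_eq_getElem _ _ hi]; exact mem_G1 _ (List.getElem_mem hi)
      · rw [List.getD_eq_default _ _ hi, ev_nil]; exact S1.one_mem
    obtain ⟨c, hc, hce⟩ := ih (pi (ev Lp (Perm.G1G.getD g [])) i)
    refine ⟨_, S1.mul_mem hg hc, ?_⟩
    rw [pi_mul, hce, follow_cons, pi_ev (letters_getD (by rw [← len_Lp]; exact letters_G1) g)]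

theorem cyc_spec {g : P} {f : Nat → Nat} (hf : ∀ x : Fin 315, ((pi g x : Fin 315) : Nat) = f x) (b : Fin 315) :
    ∀ (fuel k : Nat) (y : Fin 315), pi (g ^ k) b = y →
      cyc f b fuel y k = 0 ∨ ∃ s, k < s ∧ s ≤ k + fuel ∧ pi (g ^ s) b = b ∧ cyc f b fuel y k = mask s := by
  intro fuel
  induction fuel with
  | zero => intro k y _; exact Or.inl rfl
  | succ fuel ih =>
    intro k y hy
    have hstep : pi (g ^ (k + 1)) b = pi g y := by rw [pow_succ, pi_mul, hy]
    have hd : cyc f b (fuel + 1) y k =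
        cond (Nat.beq (f y) b) (mask (k + 1)) (cyc f b fuel (f y) (k + 1)) := by
      simp only [cyc]
      rw [forceN_eq]
    rw [hd, ← hf y]
    cases hb : Nat.beq ((pi g y : Fin 315) : Nat) b
    · rw [cond_false]
      rcases ih (k + 1) (pi g y) hstep with h | ⟨s, h1, h2, h3, h4⟩
      · exact Or.inl h
      · exact Or.inr ⟨s, by omega, by omega, h3, h4⟩
    · rw [cond_true]
      exact Or.inr ⟨k + 1, by omega, by omega, by rw [hstep]; exact Fin.ext (Nat.eq_of_beq_eq_true hb), rfl⟩

theorem mask_lt : allBelow 4 16 (fun s => Nat.ble (mask s) 31) = true := by decide +kernel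

theorem mask_dvd : ∀ s : Fin 16, 0 < s.val → ∀ t : Fin 5, Nat.testBit (mask s) t = true → s.val ∣ cand.getD t 1 := by
  decide +kernel

theorem pow_fix {g : P} {b : Fin 315} {s n : Nat} (h : pi (g ^ s) b = b) (hd : s ∣ n) : pi (g ^ n) b = b := by
  obtain ⟨c, rfl⟩ := hd
  refine pi_fix ?_
  rw [pow_mul]
  exact pow_mem (mem_of_pi h) c

theorem good_spec {g : P} {pv pu pt : Nat} (hg : ∀ x : Fin 315, ((pi g x : Fin 315) : Nat) = look pt (look pu (look pv x)))
    (h : good pv pu pt = true) : ∃ n ∈ cand, g ^ n = 1 := by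
  rw [good, forceN_eq, forceN_eq, forceN_eq] at h
  set f : Nat → Nat := fun x => look pt (look pu (look pv x))
  have key : ∀ b : Fin 315, ∀ t : Fin 5, Nat.testBit (cyc f b 15 b 0) t = true → pi (g ^ cand.getD t 1) b = b := by
    intro b t ht
    rcases cyc_spec (g := g) (f := f) hg b 15 0 b (by rw [pow_zero, pi_one]) with h0 | ⟨s, h1, h2, h3, h4⟩
    · rw [h0] at ht; simp at ht
    · rw [h4] at ht
      exact pow_fix h3 (mask_dvd ⟨s, by omega⟩ h1 t ht)
  have hne : Nat.land (Nat.land (cyc f 1 15 1 0) (cyc f 301 15 301 0)) (cyc f 77 15 77 0) ≠ 0 := fun h0 => by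
    rw [h0] at h
    exact Bool.false_ne_true h
  change (cyc f 1 15 1 0 &&& cyc f 301 15 301 0) &&& cyc f 77 15 77 0 ≠ 0 at hne
  obtain ⟨t, ht⟩ := Nat.exists_testBit_of_ne_zero hne
  rw [Nat.testBit_and, Nat.testBit_and, Bool.and_eq_true, Bool.and_eq_true] at ht
  have h31 : cyc f 1 15 1 0 ≤ 31 := by
    rcases cyc_spec (g := g) (f := f) hg (1 : Fin 315) 15 0 1 (by rw [pow_zero, pi_one]) with h0 | ⟨s, h1, h2, h3, h4⟩
    · change cyc f 1 15 1 0 = 0 at h0; omega
    · change cyc f 1 15 1 0 = mask s at h4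
      rw [h4]; exact Nat.ble_eq.mp (of_allBelow mask_lt s (by omega))
  have ht5 : t < 5 := by
    by_contra hh
    have := Nat.testBit_lt_two_pow (show cyc f 1 15 1 0 < 2 ^ t from
      lt_of_lt_of_le (show cyc f 1 15 1 0 < 2 ^ 5 by omega) (Nat.pow_le_pow_right two_pos (by omega)))
    rw [this] at ht
    exact Bool.false_ne_true ht.1.1
  have hlen : t < cand.length := by simpa [cand] using ht5
  refine ⟨cand.getD t 1, by rw [List.getD_eq_getElem _ _ hlen]; exact List.getElem_mem hlen, ?_⟩
  have hb : g ^ cand.getD t 1 ∈ baseStab ρ base := by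
    refine (mem_foldl_inf base ⊤).mpr ⟨trivial, fun b hb => mem_of_pi ?_⟩
    simp only [base, List.mem_cons, List.not_mem_nil, or_false] at hb
    rcases hb with rfl | rfl | rfl
    · exact key 1 ⟨t, ht5⟩ ht.1.1
    · exact key 301 ⟨t, ht5⟩ ht.1.2
    · exact key 77 ⟨t, ht5⟩ ht.2
  rwa [base_bot, Subgroup.mem_bot] at hb

theorem upper (g : P) : ∃ n ∈ cand, orderOf g ∣ n := by
  set i := pi g 1 with hi
  have hsub := of_allBelow sub_ok i i.2
  rw [cond_false_eq_true] at hsub
  set j := (subWords.getD i (6, [])).1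
  have hj : j < 6 := Nat.ble_eq.mp hsub.1
  obtain ⟨c, hc, hce⟩ := sub_spec (subWords.getD i (6, [])).2 i
  rw [Nat.eq_of_beq_eq_true hsub.2] at hce
  have hrep := of_allBelow reps_ok j hj
  rw [forceN_eq, cond_false_eq_true, cond_false_eq_true] at hrep
  obtain ⟨hlet, h1, htab⟩ := hrep
  set T := ev Lp (repWords.getD j []) with hT
  have hTx : ∀ x : Fin 315, ((pi T x : Fin 315) : Nat) = look (TT.get j) x := fun x => by
    rw [hT, pi_ev (fun l hl => Nat.ble_eq.mp (allList_iff.mp hlet l hl))]
    exact (Nat.eq_of_beq_eq_true (of_allBelow htab x x.2)).symm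
  set g' := c⁻¹ * g * c with hg'
  have hg'1 : ((pi g' 1 : Fin 315) : Nat) = reps.getD j 0 := by
    rw [hg', pi_mul, pi_mul, pi_fix (S1.inv_mem hc), ← hi, hce]
  have hh : g' * T⁻¹ ∈ S1 := by
    refine mem_of_pi ?_
    rw [pi_mul]
    have : pi g' 1 = pi T 1 := Fin.ext (by rw [hg'1, hTx]; exact (Nat.eq_of_beq_eq_true h1).symm)
    rw [this, ← pi_mul, mul_inv_cancel, pi_one]
  obtain ⟨k, hk, l, hl, hkl⟩ := S1_cases hh
  have hg'x : ∀ x : Fin 315, ((pi g' x : Fin 315) : Nat) = look (TT.get j) (look (UT.get k) (look (VT.get l) x)) :=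
    fun x => by
      rw [show g' = g' * T⁻¹ * T by group, pi_mul, hTx, hkl]
  have hchk : checkRep j = true := by
    interval_cases j
    exacts [orders0, orders1, orders2, orders3, orders4, orders5]
  rw [checkRep, forceN_eq] at hchk
  have h2 := of_allBelow hchk l hl
  rw [forceN_eq] at h2
  have h3 := of_allBelow h2 k hk
  rw [forceN_eq] at h3
  obtain ⟨n, hn, hgn⟩ := good_spec hg'x h3
  refine ⟨n, hn, orderOf_dvd_of_pow_eq_one ?_⟩
  have h4 : g' ^ n = c⁻¹ * g ^ n * c := by
    rw [hg']
    have := map_pow (MulAut.conj c⁻¹).toMonoidHom g n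
    simpa using this.symm
  rw [hgn] at h4
  have h5 : g ^ n = c * (c⁻¹ * g ^ n * c) * c⁻¹ := by group
  rw [h5, ← h4]; group

/-- Every witness has the claimed order. -/
noncomputable def checkWit (p : Nat × List Nat) : Bool :=
  cond (allList (fun x => Nat.ble (Nat.add x 1) 5) p.2)
    (cond (allList (fun b => Nat.beq (follow (tget Perm.Tb) b (List.replicate p.1 p.2).flatten) b) [1, 301, 77])
      (allBelow 4 16 fun m => cond (Nat.ble p.1 m) true (cond (Nat.beq m 0) true
        (cond (allList (fun b => Nat.beq (follow (tget Perm.Tb) b (List.replicate m p.2).flatten) b) [1, 301, 77])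
          false true))) false) false

theorem wit_ok : allList checkWit witnesses = true := by decide +kernel

theorem wit_spec {n : Nat} {w : List Nat} (hn : 0 < n ∧ n ≤ 16) (h : checkWit (n, w) = true) :
    orderOf (ev Lp w) = n := by
  rw [checkWit, cond_false_eq_true, cond_false_eq_true] at h
  obtain ⟨hl, hfix, hmin⟩ := h
  have hl' : ∀ l ∈ w, l < 5 := fun l hlm => Nat.ble_eq.mp (allList_iff.mp hl l hlm)
  have hlr : ∀ m : Nat, ∀ l ∈ (List.replicate m w).flatten, l < 5 := fun m l hlm => by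
    obtain ⟨s, hs, hls⟩ := List.mem_flatten.mp hlm
    exact hl' l (List.eq_of_mem_replicate hs ▸ hls)
  refine (orderOf_eq_iff hn.1).2 ⟨?_, fun m hm hm0 he => ?_⟩
  · have hb : ev Lp w ^ n ∈ baseStab ρ base := by
      refine (mem_foldl_inf base ⊤).mpr ⟨trivial, fun b hb => mem_of_pi (Fin.ext ?_)⟩
      rw [← ev_flatten_replicate, pi_ev (hlr n)]
      refine Nat.eq_of_beq_eq_true (allList_iff.mp hfix _ ?_)
      simp only [base, List.mem_cons, List.not_mem_nil, or_false] at hb
      rcases hb with rfl | rfl | rfl <;> simp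
    rwa [base_bot, Subgroup.mem_bot] at hb
  · have h1 := of_allBelow hmin m (by omega)
    have hb : Nat.ble n m = false := by rw [← Bool.not_eq_true, Nat.ble_eq]; omega
    have hz : Nat.beq m 0 = false := by
      cases hh : Nat.beq m 0
      · rfl
      · exact absurd (Nat.eq_of_beq_eq_true hh) (by omega)
    rw [hb, cond_false, hz, cond_false] at h1
    have ht : allList (fun b => Nat.beq (follow (tget Perm.Tb) b (List.replicate m w).flatten) b) [1, 301, 77] = true := by
      refine allList_iff.mpr fun b hb => ?_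
      have hlt : b < 315 := by
        simp only [List.mem_cons, List.not_mem_nil, or_false] at hb
        rcases hb with rfl | rfl | rfl <;> omega
      have := pi_ev (hlr m) ⟨b, hlt⟩
      rw [ev_flatten_replicate, he, pi_one] at this
      have h2 : follow (tget Perm.Tb) b (List.replicate m w).flatten = b := this.symm
      rw [h2]; exact Nat.beq_refl _
    rw [ht, cond_true] at h1
    exact Bool.false_ne_true h1

theorem wit_list : ∀ p ∈ witnesses, 0 < p.1 ∧ p.1 ≤ 16 := by decide +kernel

theorem wit_cover : ∀ n ∈ cand, ∃ p ∈ witnesses, p.1 = n := by decide +kernel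

/-- The element orders of the Hall–Janko group. -/
theorem range_orderOf : Set.range (orderOf : Cfsg.Spor.J2 → ℕ) = {k | ∃ m ∈ cand, k ∣ m} := by
  have h : Set.range (orderOf : P → ℕ) = {k | ∃ m ∈ cand, k ∣ m} :=
    SpecBlow.range_orderOf_eq cand upper (fun m hm => by
      obtain ⟨⟨n, w⟩, hp, rfl⟩ := wit_cover m hm
      exact ⟨ev Lp w, wit_spec (wit_list _ hp) (allList_iff.mp wit_ok _ hp)⟩) (by decide)
  rw [← h]
  ext k
  constructor
  · rintro ⟨g, rfl⟩; exact ⟨eJ g, MulEquiv.orderOf_eq eJ g⟩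
  · rintro ⟨g, rfl⟩; exact ⟨eJ.symm g, MulEquiv.orderOf_eq eJ.symm g⟩

end CfsgLib.J2.Spectrum
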